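import Cfsg.Agent.Lib.SC.Basic
import Cfsg.Agent.Lib.Bender.Inv

/-!
# Strongly closed elementary abelian 2-subgroups without transitive sections
-/

set_option autoImplicit false

namespace Cfsg.Lib.FT
open Subgroup Cfsg.Lib
open scoped commutatorElement

universe u
variable {G : Type*} [Group G] [Finite G] {A : Subgroup G}

theorem le_core_sup_of_normal (h2 : IsPGroup 2 A) {M : Subgroup G} (hM : A ≤ M)
    (h1 : (A.subgroupOf M ⊔ pPrimeCore 2 M).Normal) : M ≤ piCoreOf {2}ᶜ M ⊔ (M ⊓ N[A]) := by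
  have h3 : M ≤ N[A ⊔ piCoreOf {2}ᶜ M] := by
    have := le_normalizer_map (H := A.subgroupOf M ⊔ pPrimeCore 2 M) M.subtype
    rwa [normalizer_eq_top, ← MonoidHom.range_eq_map, range_subtype, Subgroup.map_sup,
      map_subgroupOf_eq_of_le hM, ← piCoreOf_compl_singleton] at this
  have h4 := (isSylowIn_sup_of_odd h2 (isPiSubgroup_compl_singleton_iff.1 (isPiSubgroup_piCoreOf _ M))
    (hM.trans (le_normalizer_piCoreOf _ _))).le_sup_normalizer (sup_le hM (piCoreOf_le _ _)) h3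
  refine h4.trans (sup_le (sup_le ?_ le_sup_left) le_sup_right)
  exact le_sup_of_le_right (le_inf hM Subgroup.le_normalizer)

theorem cpc_bal_of_le_sup (hA : IsElementaryAbelian 2 A) {e f : G} (he : e ∈ A) (hf : f ∈ A)
    (hc : C1[f] ≤ centralizerPPrimeCore 2 f ⊔ (C1[f] ⊓ N[A])) :
    centralizerPPrimeCore 2 e ⊓ C1[f] ≤ centralizerPPrimeCore 2 f := by
  have hAC : ∀ e ∈ A, C[A] ≤ C1[e] := fun e he => centralizer_le_singleton he
  have hA' := elemAb_le_centralizer hA
  have h2 := elemAb_isPGroup hA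
  set O := centralizerPPrimeCore 2 f
  set X := centralizerPPrimeCore 2 e ⊓ C1[f]
  have hO : ¬ 2 ∣ Nat.card O := cpc_not_dvd f
  have hX : ¬ 2 ∣ Nat.card X := fun h => cpc_not_dvd e (h.trans (card_dvd_of_le inf_le_left))
  have hAO : A ≤ N[O] := (hA'.trans (hAC f hf)).trans (cpc_norm f)
  have hAX : A ≤ N[X] := le_normalizer_inf ((hA'.trans (hAC e he)).trans (cpc_norm e))
    ((hA'.trans (hAC f hf)).trans Subgroup.le_normalizer)
  rw [← (CoprimeAct.of_isPGroup h2 hX hAX).commutator_sup_centralizer]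
  refine sup_le ?_ ?_
  · have h1 : C1[f] ≤ N[O ⊔ A] := hc.trans (sup_le (le_sup_left.trans Subgroup.le_normalizer)
      (le_normalizer_sup (inf_le_left.trans (cpc_norm f)) inf_le_right))
    have h3 : ⁅X, A⁆ ≤ O ⊔ A := (commutator_mono le_rfl le_sup_right).trans
      (le_normalizer_iff_commutator_le_right.1 (inf_le_right.trans h1))
    have h4 := le_piCoreOf_of_hasNormalPComplement
      (hasNormalPComplement_of_le_sup hO (sup_le Subgroup.le_normalizer hAO) h2 hAO le_rfl) h3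
      fun h => hX (h.trans (card_dvd_of_le (le_normalizer_iff_commutator_le_left.1 hAX)))
    refine h4.trans ?_
    rw [show O = piCoreOf {2}ᶜ C1[f] from centralizerPPrimeCore_eq f]
    refine le_piCoreOf ((piCoreOf_le _ _).trans (sup_le (piCoreOf_le _ _) (hA'.trans (hAC f hf)))) ?_
      (isPiSubgroup_piCoreOf _ _)
    rw [← centralizerPPrimeCore_eq f]
    exact h1.trans (normalizer_le_normalizer_piCoreOf _ _)
  · have h1 : X ⊓ C[A] ≤ piCoreOf {2}ᶜ C[A] := by
      refine le_trans (le_inf (inf_le_left.trans inf_le_left) inf_le_right) (le_piCoreOf inf_le_right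
        (le_normalizer_inf ((hAC e he).trans (cpc_norm e)) Subgroup.le_normalizer) ?_)
      exact isPiSubgroup_compl_singleton_iff.2 fun h => cpc_not_dvd e (h.trans (card_dvd_of_le inf_le_left))
    have h3 : piCoreOf {2}ᶜ C[A] ≤ C1[f] := (piCoreOf_le _ _).trans (hAC f hf)
    refine h1.trans (le_sup_left.trans (?_ : piCoreOf {2}ᶜ C[A] ⊔ O ≤ O))
    conv_rhs => rw [show O = piCoreOf {2}ᶜ C1[f] from centralizerPPrimeCore_eq f]
    refine le_piCoreOf (sup_le h3 (cpc_le f)) (hc.trans (sup_le (le_sup_right.trans Subgroup.le_normalizer)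
      (le_normalizer_sup (inf_le_right.trans ((normalizer_le_normalizer_centralizer A).trans
        (normalizer_le_normalizer_piCoreOf _ _))) (inf_le_left.trans (cpc_norm f))))) ?_
    refine isPiSubgroup_compl_singleton_iff.2 fun h => ?_
    rcases Nat.prime_two.dvd_mul.1 (h.trans (card_sup_dvd_mul_of_le_normalizer (h3.trans (cpc_norm f)))) with h | h
    · exact isPiSubgroup_compl_singleton_iff.1 (isPiSubgroup_piCoreOf _ _) h
    · exact hO h

theorem SCl.normal_sup' (h : SCl A) (hA : IsElementaryAbelian 2 A) (h8 : 2 ^ 3 ≤ Nat.card A)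
    (hc : ∀ e ∈ A, e ≠ 1 → C1[e] ≤ centralizerPPrimeCore 2 e ⊔ (C1[e] ⊓ N[A])) {a b : G} (ha : a ∈ A)
    (hb : b ∈ A) (ha1 : a ≠ 1) (hb1 : b ≠ 1) (hab : ¬ IsConj a b) : (A ⊔ oddCore G).Normal := by
  have hsq : ∀ e ∈ A, e ^ 2 = 1 := hA.2
  have hθ : IsSolvableSignalizerFunctor 2 A (centralizerPPrimeCore 2) :=
    cpc_sig hA (fun e _ _ => isSolvable_of_not_two_dvd (cpc_not_dvd e)) fun e he _ f hf hf1 =>
      cpc_bal_of_le_sup hA he hf (hc f hf hf1)
  have hW := sigClosure_mem_two hA h8 hθ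
  set W := signalizerClosure A (centralizerPPrimeCore 2) with hWdef
  have hNW : N[A] ≤ N[W] := normalizer_le_normalizer_cpcClosure A
  set M := W ⊔ N[A] with hM
  have hCM : ∀ e ∈ A, e ≠ 1 → C1[e] ≤ M := fun e he h1 => by
    exact (hc e he h1).trans (sup_le_sup (le_sigClosure he h1) inf_le_right)
  have hfix : ∀ e ∈ A, e ≠ 1 → ∀ g : G, g * e * g⁻¹ ∈ A → g ∈ M := fun e he h1 g hg => by
    obtain ⟨n, hn, e1⟩ := h.fusion hA.1 (elemAb_isPGroup hA) le_top (mem_top g) he hg
    have : n⁻¹ * g ∈ C1[e] := by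
      rw [mem_centralizer_singleton_iff]
      calc n⁻¹ * g * e = n⁻¹ * (g * e * g⁻¹) * g := by group
        _ = e * (n⁻¹ * g) := by rw [e1]; group
    exact (M.mul_mem_cancel_left (M.inv_mem (mem_sup_right hn.2))).1 (hCM e he h1 this)
  have htop : ∀ g : G, g ∈ M := by
    intro g
    have hb' : (g * b * g⁻¹) ^ 2 = 1 := by rw [conj_pow, hsq b hb]; group
    have hbb : IsConj b (g * b * g⁻¹) := isConj_iff.2 ⟨g, rfl⟩
    obtain ⟨u, hu, hu1, h1, h2, h3, h4⟩ := exists_central_of_not_isConj (hsq a ha) hb'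
      (fun e => hab (e.trans hbb.symm))
    have k1 : ∃ k ∈ C1[a], k * u * k⁻¹ ∈ A := by
      rcases h3 with h3 | h3
      · exact h.exists_conj_mem hA ha hu h1 ha h3
      · exact h.exists_conj_mem hA ha hu h1 hb (hbb.trans h3)
    have hu' : (g⁻¹ * u * g) ^ 2 = 1 := by
      have := conj_pow (a := g⁻¹) (b := u) (i := 2)
      rw [inv_inv] at this
      rw [this, hu]; group
    have hc' : Commute b (g⁻¹ * u * g) := by
      have := h2.eq
      calc b * (g⁻¹ * u * g) = g⁻¹ * (g * b * g⁻¹ * u) * g := by group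
        _ = _ := by rw [this]; group
    have hcj : IsConj (g * b * g⁻¹ * u) (b * (g⁻¹ * u * g)) := isConj_iff.2 ⟨g⁻¹, by group⟩
    have k2 : ∃ k ∈ C1[b], k * (g⁻¹ * u * g) * k⁻¹ ∈ A := by
      rcases h4 with h4 | h4
      · exact h.exists_conj_mem hA hb hu' hc' ha (h4.trans hcj)
      · exact h.exists_conj_mem hA hb hu' hc' hb ((hbb.trans h4).trans hcj)
    obtain ⟨k, hk, hk'⟩ := k1
    obtain ⟨l, hl, hl'⟩ := k2
    have h5 := hfix _ hk' (by simpa using hu1) (l * g⁻¹ * k⁻¹) (by simpa [mul_assoc] using hl')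
    have h6 := (M.mul_mem_cancel_right (M.inv_mem (hCM a ha ha1 hk))).1 h5
    exact M.inv_mem_iff.1 ((M.mul_mem_cancel_left (hCM b hb hb1 hl)).1 h6)
  have hWn : W.Normal := normalizer_eq_top_iff.1 (top_le_iff.1 fun g _ =>
    (sup_le Subgroup.le_normalizer hNW : M ≤ N[W]) (htop g))
  have hWO : W ≤ oddCore G := le_pPrimeCore hWn
    ((Nat.Prime.coprime_iff_not_dvd Nat.prime_two).2 (sigFam_not_dvd hW)).symm
  refine normalizer_eq_top_iff.1 (top_le_iff.1 fun g _ => (sup_le ?_ ?_ : M ≤ _) (htop g))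
  · exact (hWO.trans le_sup_right).trans Subgroup.le_normalizer
  · exact le_normalizer_sup le_rfl le_normalizer_of_normal

omit [Finite G] in
theorem SCl.map_of_ker_le (h : SCl A) (h2 : IsPGroup 2 A) {G' : Type*} [Group G'] (f : G →* G')
    (hs : Function.Surjective f) (hk : f.ker ≤ A) : SCl (A.map f) := by
  intro P hP hAP x hx g hg
  obtain ⟨g, rfl⟩ := hs g
  obtain ⟨x, rfl⟩ := hs x
  refine mem_map_of_mem f (h (P.comap f) (hP.comap_of_ker_isPGroup f (h2.to_le hk))
    (map_le_iff_le_comap.1 hAP) x hx g ?_)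
  rw [← comap_map_eq_self hk, mem_comap]
  simpa using hg

/-- no section of the automizer of `A` can be transitive on the non-trivial elements of a quotient of `A` -/
def NoTr (A : Subgroup G) : Prop :=
  ∀ m, 4 ≤ m → m ∣ Nat.card A → ∃ p, p.Prime ∧ p ∣ m - 1 ∧
    ∀ Q : Subgroup G, Q ≤ N[A] → IsPGroup p Q → m * Nat.card ↥(A ⊓ C[Q]) ≠ Nat.card A

omit [Finite G] in
theorem NoTr.subgroupOf (h : NoTr A) {M : Subgroup G} (hM : A ≤ M) : NoTr (A.subgroupOf M) := by
  have hmap : (A.subgroupOf M).map M.subtype = A := map_subgroupOf_eq_of_le hM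
  have hc : Nat.card (A.subgroupOf M) = Nat.card A := by
    rw [← card_map_of_injective M.subtype_injective, hmap]
  intro m hm hd
  obtain ⟨p, hp, hpm, hQ⟩ := h m hm (hc ▸ hd)
  refine ⟨p, hp, hpm, fun Q hQN hQp => ?_⟩
  have h1 := hQ (Q.map M.subtype) (hmap ▸ (map_mono hQN).trans (le_normalizer_map _)) (hQp.map _)
  rw [hc, ← card_map_of_injective M.subtype_injective]
  convert h1 using 4
  ext x
  refine ⟨?_, fun hx => ⟨⟨x, hM hx.1⟩, ⟨hx.1, fun q hq => Subtype.ext (hx.2 q (mem_map_of_mem _ hq))⟩, rfl⟩⟩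
  rintro ⟨x, hx, rfl⟩
  refine ⟨hx.1, ?_⟩
  rintro _ ⟨q, hq, rfl⟩
  exact congrArg Subtype.val (hx.2 q hq)

theorem NoTr.map (h : NoTr A) (h2 : IsPGroup 2 A) {G' : Type*} [Group G'] [Finite G'] (f : G →* G')
    (hs : Function.Surjective f) (hk : f.ker ≤ A) (hz : f.ker ≤ center G) : NoTr (A.map f) := by
  intro m hm hd
  have hd' := hd.trans (card_map_dvd _ _)
  obtain ⟨p, hp, hpm, hQ⟩ := h m hm hd'
  refine ⟨p, hp, hpm, fun Q hQN hQp => ?_⟩
  have := Fact.mk hp
  have hp2 : p ≠ 2 := by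
    rintro rfl
    obtain ⟨k, hk⟩ := h2.exists_card_eq
    obtain ⟨j, -, rfl⟩ := (Nat.dvd_prime_pow Nat.prime_two).1 (hk ▸ hd')
    rcases j with _ | j
    · omega
    · rw [pow_succ] at hpm hm; omega
  obtain ⟨R, hR, -⟩ := exists_isSylowIn_ge (q := p) (K := Q.comap f) IsPGroup.of_bot bot_le
  have h1 := hR.map f
  rw [map_comap_eq_self_of_surjective hs] at h1
  have h3 : R.map f = Q := (h1.maximal Q hQp le_rfl h1.le).symm
  have hRN : R ≤ N[A] := by
    refine hR.le.trans ((comap_mono hQN).trans ?_)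
    rw [comap_normalizer_eq_of_surjective _ hs, comap_map_eq_self hk]
  have h4 := bg1_14b' f hRN hR.isPGroup (by
    obtain ⟨k, hk⟩ := (h2.to_le (inf_le_left : A ⊓ f.ker ≤ A)).exists_card_eq
    rw [hk]
    exact fun h => hp2 ((Nat.prime_dvd_prime_iff_eq hp Nat.prime_two).1 (hp.dvd_of_dvd_pow h)))
  have h5 := pg_card_map_mul_card_ker f A
  have h6 := pg_card_map_mul_card_ker f (A ⊓ C[R])
  rw [inf_eq_right.2 hk] at h5
  rw [inf_eq_right.2 (le_inf hk (hz.trans (center_le_centralizer _))), ← h4, h3] at h6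
  intro e
  refine hQ R hRN hR.isPGroup ?_
  rw [← h5, ← h6, ← e, mul_assoc]

theorem comap_pPrimeCore_of_central {G' : Type*} [Group G'] [Finite G'] (f : G →* G')
    (h2 : IsPGroup 2 f.ker) (hz : f.ker ≤ center G) :
    (pPrimeCore 2 G').comap f ≤ f.ker ⊔ pPrimeCore 2 G := by
  set K := (pPrimeCore 2 G').comap f
  have hK : f.ker ≤ K := ker_le_comap _ _
  have hd : ¬ 2 ∣ Nat.card (K.map f) := fun h =>
    not_dvd_card_pPrimeCore (h.trans (card_dvd_of_le (map_comap_le _ _)))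
  have h3 : IsSylowIn 2 f.ker K := by
    refine IsSylowIn.of_not_dvd_relIndex hK h2 ?_
    rwa [relIndex_ker]
  obtain ⟨k, hk⟩ := hasNormalPComplement_iff_relIndex.1
    (bg1_18 h3 (le_centralizer_iff.1 (hz.trans (center_le_centralizer _))))
  rw [← sup_eq_of_isSylowIn_of_relIndex h3 (piCoreOf_le _ _) hk, sup_comm]
  refine sup_le_sup_left (le_pPrimeCore (normalizer_eq_top_iff.1 (top_le_iff.1 (le_trans
    le_normalizer_of_normal (normalizer_le_normalizer_piCoreOf _ _)))) ?_) _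
  exact isPiSubgroup_compl_singleton_iff_coprime.1 (isPiSubgroup_piCoreOf _ _)

theorem SCl.normal_of_noTr_aux (n : ℕ) : ∀ (G : Type u) [Group G] [Finite G], Nat.card G = n →
    ∀ A : Subgroup G, SCl A → IsElementaryAbelian 2 A → NoTr A → (A ⊔ oddCore G).Normal := by
  induction n using Nat.strong_induction_on with
  | _ n ih =>
  intro G _ _ hn A h hA hN
  have h2 := elemAb_isPGroup hA
  have hAC : ∀ e ∈ A, A ≤ C1[e] := fun e he =>
    (elemAb_le_centralizer hA).trans (centralizer_le_singleton he)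
  by_cases hz : ∃ e ∈ A, e ≠ 1 ∧ e ∈ center G
  · obtain ⟨e, he, he1, hez⟩ := hz
    have hZ : zpowers e ≤ center G := zpowers_le.2 hez
    have : (zpowers e).Normal := ⟨fun x hx g => by rwa [mem_center_iff.1 (hZ hx) g, mul_inv_cancel_right]⟩
    have hk : (QuotientGroup.mk' (zpowers e)).ker = zpowers e := QuotientGroup.ker_mk' _
    have hs := QuotientGroup.mk'_surjective (zpowers e)
    have hkA : (QuotientGroup.mk' (zpowers e)).ker ≤ A := hk.le.trans (zpowers_le.2 he)
    have hlt : Nat.card (G ⧸ zpowers e) < n := by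
      have h3 := card_eq_card_quotient_mul_card_subgroup (zpowers e)
      have h4 : 0 < Nat.card (G ⧸ zpowers e) := Nat.card_pos
      rw [Nat.card_zpowers, elemAb_orderOf hA he he1] at h3
      omega
    have h1 := (ih _ hlt _ rfl _ (h.map_of_ker_le h2 _ hs hkA)
      (elemAb_map hA _) (hN.map h2 _ hs hkA (hk.le.trans hZ))).comap (QuotientGroup.mk' (zpowers e))
    convert h1 using 1
    rw [← comap_sup_eq _ _ _ hs, comap_map_eq_self hkA]
    refine le_antisymm (sup_le_sup_left ?_ _) (sup_le le_sup_left ((comap_pPrimeCore_of_central _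
      (h2.to_le hkA) (hk.le.trans hZ)).trans (sup_le_sup_right hkA _)))
    exact map_le_iff_le_comap.1 (map_pPrimeCore_le _ hs)
  have hc : ∀ e ∈ A, e ≠ 1 → C1[e] ≤ centralizerPPrimeCore 2 e ⊔ (C1[e] ⊓ N[A]) := fun e he h1 => by
    rw [centralizerPPrimeCore_eq]
    refine le_core_sup_of_normal h2 (hAC e he) (ih _ (hn ▸ ?_) _ rfl _ (h.subgroupOf (hAC e he))
      ((elemAb_subgroupOf_iff (hAC e he)).2 hA) (hN.subgroupOf (hAC e he)))
    rw [← card_top (G := G)]
    refine lt_of_le_of_ne (card_le_of_le le_top) fun e0 => hz ⟨e, he, h1, mem_center_iff.2 fun g => ?_⟩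
    have e1 : C1[e] = ⊤ := eq_of_le_of_card_ge le_top e0.ge
    exact mem_centralizer_singleton_iff.1 (e1 ▸ mem_top g)
  have hiso : ∀ e ∈ A, e ≠ 1 → N[A] ≤ C1[e] → (A ⊔ oddCore G).Normal := fun e he h1 hNe => by
    have h3 : IsIsolated e := fun g hg => by
      have hu : (g * e * g⁻¹) ^ 2 = 1 := by rw [conj_pow, hA.2 e he]; group
      obtain ⟨P, hP, hAP⟩ := exists_isSylowIn_ge h2 (hAC e he)
      have huC : g * e * g⁻¹ ∈ C1[e] := mem_centralizer_singleton_iff.2 hg.symm.eq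
      obtain ⟨k, hk, hle⟩ := hP.exists_conj_le (elemAb_isPGroup (elemAb_zpowers hu)) (zpowers_le.2 huC)
      have h4 : (k * g) * e * (k * g)⁻¹ ∈ A := h P hP.isPGroup hAP _
        (by simpa [mul_assoc] using hle (conj_mem_conj (mem_zpowers _) k)) (k * g)⁻¹ (by simpa [mul_assoc])
      obtain ⟨m, hm, e1⟩ := h.fusion hA.1 h2 le_top (mem_top _) he h4
      have h5 := mem_centralizer_singleton_iff.1 (hNe hm.2)
      have h6 := mem_centralizer_singleton_iff.1 hk
      calc g * e * g⁻¹ = k⁻¹ * (k * g * e * (k * g)⁻¹) * k := by group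
        _ = k⁻¹ * (e * k) := by rw [e1, h5]; group
        _ = e := by rw [← h6]; group
    have h4 := pg_centralizer_sup_of_isIsolated (by rw [← sq]; exact hA.2 e he) h3
    have h5 : centralizerPPrimeCore 2 e ≤ oddCore G := by
      refine le_sup_left.trans (le_pPrimeCore (N := centralizerPPrimeCore 2 e ⊔ pPrimeCore 2 G)
        (normalizer_eq_top_iff.1 (top_le_iff.1 (h4.ge.trans (sup_le (le_normalizer_sup (cpc_norm e)
          le_normalizer_of_normal) (le_sup_right.trans Subgroup.le_normalizer))))) ?_)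
      refine ((Nat.Prime.coprime_iff_not_dvd Nat.prime_two).2 fun h => ?_).symm
      rcases Nat.prime_two.dvd_mul.1 (h.trans (card_sup_dvd_mul_of_normal _ _)) with h | h
      · exact cpc_not_dvd e h
      · exact not_dvd_card_pPrimeCore h
    refine normalizer_eq_top_iff.1 (top_le_iff.1 (h4.ge.trans (sup_le ((hc e he h1).trans (sup_le ?_ ?_)) ?_)))
    · exact (h5.trans le_sup_right).trans Subgroup.le_normalizer
    · exact inf_le_right.trans (le_normalizer_sup le_rfl le_normalizer_of_normal)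
    · exact le_sup_right.trans Subgroup.le_normalizer
  by_cases h1 : A = ⊥
  · rw [h1, bot_sup_eq]; infer_instance
  by_contra hcon
  have hno : ∀ e ∈ A, e ≠ 1 → ¬ N[A] ≤ C1[e] := fun e he h1 hNe => hcon (hiso e he h1 hNe)
  obtain ⟨⟨a, ha⟩, ha1⟩ := ne_bot_iff_exists_ne_one.1 h1
  replace ha1 : a ≠ 1 := fun e => ha1 (Subtype.ext e)
  have hmv : ∀ e ∈ A, e ≠ 1 → ∃ f ∈ A, f ≠ 1 ∧ f ≠ e ∧ IsConj e f := fun e he h1 => by
    obtain ⟨g, hg, hg'⟩ := SetLike.not_le_iff_exists.1 (hno e he h1)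
    refine ⟨_, (mem_normalizer_iff.1 hg e).1 he, by simpa using h1, fun e1 => hg' ?_, isConj_iff.2 ⟨g, rfl⟩⟩
    rw [mem_centralizer_singleton_iff, ← mul_inv_eq_iff_eq_mul, e1]
  have hcard : ∀ s : Finset G, (∀ x ∈ s, x ∈ A) → s.card ≤ Nat.card A := fun s hs => by
    rw [← Set.ncard_coe_finset, ← SetLike.coe_sort_coe, Nat.card_coe_set_eq]
    exact Set.ncard_le_ncard hs
  obtain ⟨k, hk⟩ := h2.exists_card_eq
  classical
  obtain ⟨a', ha', ha1', haa, hca⟩ := hmv a ha ha1
  by_cases hcl : ∃ b ∈ A, b ≠ 1 ∧ ¬ IsConj a b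
  · obtain ⟨b, hb, hb1, hab⟩ := hcl
    refine hcon (h.normal_sup' hA ?_ hc ha hb ha1 hb1 hab)
    obtain ⟨b', hb', hb1', hbb, hcb⟩ := hmv b hb hb1
    have h3 := hcard {1, a, a', b, b'} (by simp [*])
    have n1 : a ≠ b := fun e => hab (e ▸ IsConj.refl a)
    have n2 : a' ≠ b := fun e => hab (e ▸ hca)
    have n3 : a ≠ b' := fun e => hab (e ▸ hcb.symm)
    have n4 : a' ≠ b' := fun e => hab (hca.trans (e ▸ hcb.symm))
    rw [Finset.card_insert_of_notMem (by simp [ha1.symm, ha1'.symm, hb1.symm, hb1'.symm]),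
      Finset.card_insert_of_notMem (by simp [haa.symm, n1, n3]),
      Finset.card_insert_of_notMem (by simp [n2, n4]), Finset.card_pair hbb.symm, hk] at h3
    rw [hk]
    refine Nat.pow_le_pow_right two_pos (not_lt.1 fun hlt => ?_)
    interval_cases k <;> omega
  push Not at hcl
  have h4 : 4 ≤ Nat.card A := by
    have h3 := hcard {1, a, a'} (by simp [*])
    rw [Finset.card_insert_of_notMem (by simp [ha1.symm, ha1'.symm]), Finset.card_pair haa.symm, hk] at h3
    rw [hk]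
    refine Nat.pow_le_pow_right two_pos (show 2 ≤ k from not_lt.1 fun hlt => ?_)
    interval_cases k <;> omega
  obtain ⟨p, hp, hpm, hQ⟩ := hN _ h4 dvd_rfl
  have := Fact.mk hp
  obtain ⟨Q, hQs, -⟩ := exists_isSylowIn_ge (q := p) (K := N[A]) IsPGroup.of_bot bot_le
  have h5 : A ⊓ C[Q] ≠ ⊥ := fun e => hQ Q hQs.le hQs.isPGroup (by rw [e, card_bot, mul_one])
  obtain ⟨⟨e, he⟩, he1⟩ := ne_bot_iff_exists_ne_one.1 h5
  replace he1 : e ≠ 1 := fun e => he1 (Subtype.ext e)
  have h6 : (fun x => x * e * x⁻¹) '' (N[A] : Set G) = (A : Set G) \ {1} := by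
    ext y
    refine ⟨?_, fun hy => ?_⟩
    · rintro ⟨g, hg, rfl⟩
      exact ⟨(mem_normalizer_iff.1 hg e).1 he.1, by simpa using he1⟩
    · obtain ⟨g, rfl⟩ := isConj_iff.1 ((hcl e he.1 he1).symm.trans (hcl y hy.1 hy.2))
      obtain ⟨m, hm, e1⟩ := h.fusion hA.1 h2 le_top (mem_top _) he.1 hy.1
      exact ⟨m, hm.2, e1.symm⟩
  have h7 := Bender.ncard_conj_eq_relIndex N[A] e
  rw [h6, Set.ncard_diff_singleton_of_mem A.one_mem, ← Nat.card_coe_set_eq, SetLike.coe_sort_coe] at h7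
  refine hQs.not_dvd_relIndex ((h7 ▸ hpm).trans (relIndex_dvd_of_le_left _ fun q hq => ?_))
  exact mem_centralizer_singleton_iff.2 (he.2 q hq)

/-- **strongly closed elementary abelian subgroups** without transitive sections are normal modulo the core -/
theorem SCl.normal_of_noTr (h : SCl A) (hA : IsElementaryAbelian 2 A) (hN : NoTr A) :
    (A ⊔ oddCore G).Normal := SCl.normal_of_noTr_aux _ G rfl A h hA hN

end Cfsg.Lib.FT
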